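import Groth.Agent.H13CI.Scheme
import Groth.Agent.H13CI.Syntomic
import Groth.Agent.S2164
import Groth.Agent.S0114
import Groth.Agent.H06EGA9.FlatDescentAtPoint

/-!
# Syntomic morphisms descend along fppf coverings of the source
-/

set_option autoImplicit false
set_option linter.style.haveILetI false

universe u

open CategoryTheory CategoryTheory.Limits AlgebraicGeometry IsLocalRing

namespace Groth.Agent.H8Synt

open H13CI

/-- If a flat `f` is followed by `g` and the composite has a complete intersection fibre at `x`, then so do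
`f` at `x` and `g` at `f x`. -/
theorem isCI_fiberStalk_descend {X Y Z : Scheme.{u}} (f : X ⟶ Y) (g : Y ⟶ Z) [Flat f] [LocallyOfFiniteType f]
    [LocallyOfFiniteType g] (x : X) (h : Pi1.IsCompleteIntersection (CInt.fiberStalk (f ≫ g) x)) :
    Pi1.IsCompleteIntersection (CInt.fiberStalk g (f x)) ∧
      Pi1.IsCompleteIntersection (CInt.fiberStalk f x) := by
  have hcomp : ((f ≫ g).stalkMap x).hom = (f.stalkMap x).hom.comp (g.stalkMap (f x)).hom := by
    rw [Scheme.Hom.stalkMap_comp]; rfl
  letI := (f.stalkMap x).hom.toAlgebra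
  let B := Y.presheaf.stalk (f x)
  let C := X.presheaf.stalk x
  let I : Ideal B := (maximalIdeal (Z.presheaf.stalk (g (f x)))).map (g.stalkMap (f x)).hom
  have hIm : I ≤ maximalIdeal B := map_maximalIdeal_le _
  haveI : IsLocalHom (algebraMap B C) := inferInstanceAs (IsLocalHom (f.stalkMap x).hom)
  have hIC : I.map (algebraMap B C) ≤ maximalIdeal C := (Ideal.map_mono hIm).trans (map_maximalIdeal_le _)
  haveI : Nontrivial (B ⧸ I) :=
    Ideal.Quotient.nontrivial_iff.mpr (ne_top_of_le_ne_top (maximalIdeal.isMaximal B).ne_top hIm)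
  haveI : Nontrivial (C ⧸ I.map (algebraMap B C)) :=
    Ideal.Quotient.nontrivial_iff.mpr (ne_top_of_le_ne_top (maximalIdeal.isMaximal C).ne_top hIC)
  haveI : IsLocalRing (B ⧸ I) := .of_surjective' _ Ideal.Quotient.mk_surjective
  haveI : IsLocalRing (C ⧸ I.map (algebraMap B C)) := .of_surjective' _ Ideal.Quotient.mk_surjective
  haveI : IsNoetherianRing (B ⧸ I) := by
    haveI : LocallyOfFiniteType (g.fiberToSpecResidueField (g (f x))) :=
      H8Props.FieldDim.locallyOfFiniteType_fiberToSpec g _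
    exact H8Props.CMAt.isNoetherianRing_fibre g (f x)
      (LocallyOfFiniteType.isLocallyNoetherian (g.fiberToSpecResidueField (g (f x))))
  haveI : Module.Flat B C := Flat.stalkMap f x
  haveI := H8Props.FlatDepth.flat_base_quotient (B := C) I
  haveI := H8Props.FlatDepth.isLocalHom_quotient (B := C) I
  have hmax := H8Props.FlatDepth.map_maximalIdeal_quotient (B := C) I
  haveI : Algebra.EssFiniteType B C := LocallyOfFiniteType.stalkMap f x
  haveI : Algebra.EssFiniteType (B ⧸ I) (C ⧸ I.map (algebraMap B C)) :=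
    Algebra.EssFiniteType.of_comp B (B ⧸ I) (C ⧸ I.map (algebraMap B C))
  let mC : Ideal C := (maximalIdeal B).map (algebraMap B C)
  haveI : Nontrivial (C ⧸ mC) :=
    Ideal.Quotient.nontrivial_iff.mpr
      (ne_top_of_le_ne_top (maximalIdeal.isMaximal C).ne_top (map_maximalIdeal_le _))
  haveI : IsLocalRing (C ⧸ mC) := .of_surjective' _ Ideal.Quotient.mk_surjective
  let e : ((C ⧸ I.map (algebraMap B C)) ⧸
      (maximalIdeal (B ⧸ I)).map (algebraMap (B ⧸ I) (C ⧸ I.map (algebraMap B C)))) ≃+* C ⧸ mC :=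
    (Ideal.quotEquivOfEq hmax).trans ((DoubleQuot.quotQuotEquivQuotSup _ _).trans
      (Ideal.quotEquivOfEq (sup_eq_right.mpr (Ideal.map_mono hIm))))
  haveI : IsLocalRing ((C ⧸ I.map (algebraMap B C)) ⧸
      (maximalIdeal (B ⧸ I)).map (algebraMap (B ⧸ I) (C ⧸ I.map (algebraMap B C)))) := e.symm.isLocalRing
  haveI : IsNoetherianRing (C ⧸ I.map (algebraMap B C)) := Algebra.EssFiniteType.isNoetherianRing (B ⧸ I) _
  haveI : LocallyOfFiniteType (f ≫ g) := inferInstance
  have hJ : I.map (algebraMap B C) = (maximalIdeal (Z.presheaf.stalk (g (f x)))).map ((f ≫ g).stalkMap x).hom := by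
    rw [hcomp]; exact Ideal.map_map _ _
  haveI : IsLocalRing (C ⧸ (maximalIdeal (Z.presheaf.stalk ((f ≫ g) x))).map ((f ≫ g).stalkMap x).hom) :=
    (Ideal.quotEquivOfEq hJ).isLocalRing
  haveI : IsLocalRing (C ⧸ (maximalIdeal (Z.presheaf.stalk (g (f x)))).map ((f ≫ g).stalkMap x).hom) :=
    (Ideal.quotEquivOfEq hJ).isLocalRing
  haveI : IsNoetherianRing (C ⧸ (maximalIdeal (Z.presheaf.stalk (g (f x)))).map ((f ≫ g).stalkMap x).hom) :=
    isNoetherianRing_of_ringEquiv _ (Ideal.quotEquivOfEq hJ)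
  have hC : Pi1.IsCompleteIntersection (C ⧸ I.map (algebraMap B C)) :=
    isCI_of_ringEquiv (Ideal.quotEquivOfEq hJ).symm ((isCI_fiberStalk_iff (f ≫ g) x).mpr h)
  obtain ⟨hB, hF⟩ := (S2164.result (A := B ⧸ I) (B := C ⧸ I.map (algebraMap B C))).mp hC
  exact ⟨(isCI_fiberStalk_iff g (f x)).mp hB, (isCI_fiberStalk_iff f x).mp (isCI_of_ringEquiv e hF)⟩

/-- Syntomic morphisms descend along fppf coverings of the source. -/
theorem isSyntomicMor_of_comp_fppf {X Y S : Scheme.{u}} (f : X ⟶ Y) (q : Y ⟶ S)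
    [Surjective f] [Flat f] [LocallyOfFinitePresentation f] (h : Synt.IsSyntomicMor (f ≫ q)) :
    Synt.IsSyntomicMor q ∧ Synt.IsSyntomicMor f := by
  rw [isSyntomicMor_iff_isCIMorphism] at h
  obtain ⟨hfl, hlfp, hci⟩ := h
  haveI := hfl
  haveI := hlfp
  haveI : LocallyOfFinitePresentation q := S0114.result f q
  haveI : Flat q := H06EGA9.flat_of_comp_surjective_flat f q
  simp only [isSyntomicMor_iff_isCIMorphism]
  refine ⟨⟨inferInstance, inferInstance, fun y => ?_⟩,
    ⟨inferInstance, inferInstance, fun x => (isCI_fiberStalk_descend f q x (hci x)).2⟩⟩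
  obtain ⟨x, rfl⟩ := f.surjective y
  exact (isCI_fiberStalk_descend f q x (hci x)).1

end Groth.Agent.H8Synt
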